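import Groth.Agent.S3249
import Groth.Agent.S2283

/-! Extension of morphisms from an open subscheme of a smooth variety into an abelian variety. -/

set_option autoImplicit false
universe u

open AlgebraicGeometry CategoryTheory CategoryTheory.Limits

namespace K505.Ext

/-- A rational map from an integral scheme over `S` into a proper `S`-scheme is defined at
every point whose local ring is a valuation ring. -/
theorem mem_domain {S X Y : Scheme.{u}} [IsLocallyNoetherian S] [X.Over S] [Y.Over S] [IsIntegral X]
    [IsProper (Y ↘ S)] (f : X ⤏ Y) [f.IsOver S] (x : X) [ValuationRing (X.presheaf.stalk x)] :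
    x ∈ f.domain := by
  have hval : ValuativeCriterion.Existence (Y ↘ S) := by
    have h : IsProper (Y ↘ S) := inferInstance
    rw [IsProper.eq_valuativeCriterion] at h
    exact h.1.1.1.existence
  have hcomm : CommSq f.fromFunctionField (Spec.map (CommRingCat.ofHom
      (algebraMap (X.presheaf.stalk x) X.functionField))) (Y ↘ S) (X.fromSpecStalk x ≫ (X ↘ S)) := by
    constructor
    obtain ⟨g, hg, rfl⟩ : ∃ g : X.PartialMap Y, g.IsOver S ∧ g.toRationalMap = f :=
      Scheme.RationalMap.exists_partialMap_over (S := S) f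
    rw [Scheme.RationalMap.fromFunctionField_toRationalMap, Scheme.PartialMap.fromFunctionField,
      Scheme.PartialMap.fromSpecStalkOfMem, Category.assoc]
    have h : g.hom ≫ (Y ↘ S) = g.domain.ι ≫ (X ↘ S) := by simp
    rw [h, Scheme.Opens.fromSpecStalkOfMem_ι_assoc, ← Category.assoc]
    congr 1
    exact (Scheme.SpecMap_stalkSpecializes_fromSpecStalk (genericPoint_specializes x)).symm
  have : IsFractionRing (X.presheaf.stalk x) X.functionField := inferInstance
  obtain ⟨⟨l⟩⟩ := hval
    { R := X.presheaf.stalk x
      commRing := inferInstance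
      domain := inferInstance
      valuationRing := inferInstance
      K := X.functionField
      field := inferInstance
      algebra := inferInstance
      isFractionRing := inferInstance
      i₁ := f.fromFunctionField
      i₂ := X.fromSpecStalk x ≫ (X ↘ S)
      commSq := hcomm }
  obtain ⟨g, hg, hgf, hx⟩ := (Groth.Agent.S2283.result S X Y f x).mpr ⟨l.l, l.fac_right, l.fac_left⟩
  rw [← hgf]
  exact g.le_domain_toRationalMap hx

/-- Morphisms from a nonempty open subscheme of a smooth integral scheme over a field into a group scheme which is proper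
extend. -/
theorem exists_extension {K : Type u} [Field K]
    (X : Scheme.{u}) (pX : X ⟶ Spec (CommRingCat.of K)) [Smooth pX] [IsIntegral X]
    (A : Over (Spec (CommRingCat.of K))) [GrpObj A] [IsProper A.hom]
    (U : X.Opens) (hU : (U : Set X).Nonempty) (f : (U : Scheme.{u}) ⟶ A.left) (hf : f ≫ A.hom = U.ι ≫ pX) :
    ∃ g : X ⟶ A.left, g ≫ A.hom = pX ∧ U.ι ≫ g = f := by
  let _ : X.Over (Spec (CommRingCat.of K)) := ⟨pX⟩
  let _ : A.left.Over (Spec (CommRingCat.of K)) := ⟨A.hom⟩
  have hA : IsProper (A.left ↘ Spec (CommRingCat.of K)) := ‹IsProper A.hom›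
  have hAs : A.left.IsSeparated := by
    constructor
    rw [← terminal.comp_from A.hom]
    infer_instance
  let _ : GrpObj (Over.mk A.hom) := (inferInstance : GrpObj A)
  have hdU : Dense (U : Set X) := U.2.dense hU
  let f₀ : X.PartialMap A.left := ⟨U, hdU, f⟩
  have hf₀ : f₀.IsOver (Spec (CommRingCat.of K)) := by
    rw [Scheme.PartialMap.isOver_iff]
    exact hf
  let r : X ⤏ A.left := f₀.toRationalMap
  have hr : r.IsOver (Spec (CommRingCat.of K)) := inferInstance
  let f₁ := r.toPartialMap
  have hf₁ : f₁.IsOver (Spec (CommRingCat.of K)) := inferInstance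
  have hf₁' : f₁.hom ≫ A.hom = f₁.domain.ι ≫ pX := by
    rw [Scheme.PartialMap.isOver_iff] at hf₁
    exact hf₁
  have : IsLocallyNoetherian X := LocallyOfFiniteType.isLocallyNoetherian pX
  have hcodim : ∀ x : X, x ∉ f₁.domain → (2 : WithBot ℕ∞) ≤ ringKrullDim (X.presheaf.stalk x) := by
    intro x hx
    by_contra hlt
    obtain ⟨h1, h2⟩ := Groth.Agent.Dix.NormalLoc.stalk_of_smooth pX x
    obtain ⟨h3, -⟩ := Groth.Agent.Dix.NormalLoc.valuationRing_of_not_two_le_ringKrullDim (X.presheaf.stalk x) hlt
    exact hx (mem_domain (S := Spec (CommRingCat.of K)) r x)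
  have hdense : ∀ x : X, x ∈ closure ((f₁.domain : Set X) ∩ {y | pX.base y = pX.base x}) := by
    intro x
    have h1 : {y | pX.base y = pX.base x} = Set.univ := by
      ext y
      simp only [Set.mem_univ, iff_true]
      exact Subsingleton.elim (α := PrimeSpectrum K) _ _
    rw [h1, Set.inter_univ]
    exact f₁.dense_domain x
  obtain ⟨g, ⟨hg1, hg2⟩, -⟩ := Groth.Agent.S3249.result (R := K) pX A.hom f₁.domain hdense hcodim f₁.hom hf₁'
  refine ⟨g, hg1, ?_⟩
  have h1 := Scheme.PartialMap.toPartialMap_toRationalMap_restrict f₀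
  have hle : U ≤ f₁.domain := f₀.le_domain_toRationalMap
  have h2 : X.homOfLE hle ≫ f₁.hom = f := h1
  rw [← h2, ← hg2, ← Category.assoc, Scheme.homOfLE_ι]

end K505.Ext
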