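import Groth.Agent.AbVar.K505.Image

/-!
# Poincaré's complete reducibility theorem over an arbitrary field

`exists_complement`: from a retraction up to isogeny `i ≫ p = n` one gets a complement `j : C ⟶ A` and the two
isogenies between `A` and `B ⊗ C` whose composites are `n`.
-/

set_option autoImplicit false
universe u
open AlgebraicGeometry CategoryTheory Limits MonoidalCategory CartesianMonoidalCategory MonObj

namespace K505.Complement

open Groth.Agent

variable {k : Type u} [Field k]

theorem isMonHom_mul {M G : Over (Spec (CommRingCat.of k))} [GrpObj M] [GrpObj G] [IsCommMonObj G] (f g : M ⟶ G)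
    [IsMonHom f] [IsMonHom g] : IsMonHom (f * g) where
  one_hom := by
    rw [MonObj.comp_mul, IsMonHom.one_hom, IsMonHom.one_hom, MonObj.one_eq_one, _root_.one_mul]
  mul_hom := by
    have h1 (h : M ⟶ G) [IsMonHom h] : μ[M] ≫ h = (fst M M ≫ h) * (snd M M ≫ h) := by
      rw [IsMonHom.mul_hom, mul_eq_mul, MonObj.comp_mul, tensorHom_fst, tensorHom_snd]
    rw [MonObj.comp_mul, h1 f, h1 g, mul_eq_mul, MonObj.comp_mul, tensorHom_fst, tensorHom_snd, MonObj.comp_mul,
      MonObj.comp_mul, _root_.mul_mul_mul_comm]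

theorem isMonHom_one {M G : Over (Spec (CommRingCat.of k))} [GrpObj M] [GrpObj G] : IsMonHom (1 : M ⟶ G) where
  one_hom := by
    rw [MonObj.comp_one, MonObj.one_eq_one]
  mul_hom := by
    rw [MonObj.comp_one, mul_eq_mul, MonObj.comp_mul, tensorHom_fst, tensorHom_snd, MonObj.comp_one, MonObj.comp_one,
      _root_.one_mul]

theorem isMonHom_pow {M G : Over (Spec (CommRingCat.of k))} [GrpObj M] [GrpObj G] [IsCommMonObj G] (f : M ⟶ G)
    [IsMonHom f] (n : ℕ) : IsMonHom (f ^ n) := by
  induction n with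
  | zero =>
    rw [pow_zero]
    exact isMonHom_one
  | succ n ih =>
    rw [pow_succ]
    exact isMonHom_mul _ _

theorem pow_comp {X G H : Over (Spec (CommRingCat.of k))} [GrpObj G] [GrpObj H] (f : X ⟶ G) (g : G ⟶ H) [IsMonHom g]
    (n : ℕ) : (f ^ n) ≫ g = (f ≫ g) ^ n := by
  induction n with
  | zero => rw [pow_zero, pow_zero, MonObj.one_comp]
  | succ n ih => rw [pow_succ, pow_succ, MonObj.mul_comp, ih]

theorem exists_complement (A B : Over (Spec (CommRingCat.of k)))
    [GrpObj A] [IsProper A.hom] [GeometricallyIntegral A.hom]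
    [GrpObj B] [IsProper B.hom] [GeometricallyIntegral B.hom]
    (i : B ⟶ A) [IsMonHom i] [IsClosedImmersion i.left] :
    ∃ (C : Over (Spec (CommRingCat.of k))) (_ : GrpObj C) (j : C ⟶ A) (φ : A ⟶ B ⊗ C) (n : ℕ),
      IsProper C.hom ∧ GeometricallyIntegral C.hom ∧ IsMonHom j ∧ IsClosedImmersion j.left ∧ IsMonHom φ ∧ 0 < n ∧
      φ ≫ ((fst B C ≫ i) * (snd B C ≫ j)) = (𝟙 A) ^ n ∧
      ((fst B C ≫ i) * (snd B C ≫ j)) ≫ φ = (𝟙 (B ⊗ C)) ^ n := by
  have hA : IsCommMonObj A := isCommMonObj_of_isProper_of_geometricallyIntegral A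
  have hB : IsCommMonObj B := isCommMonObj_of_isProper_of_geometricallyIntegral B
  obtain ⟨p, n, hp, hn, hip⟩ := Image.exists_retraction_up_to_isogeny A B i
  have h1 := isMonHom_pow (𝟙 A) n
  let u : A ⟶ A := (𝟙 A) ^ n * (p ≫ i)⁻¹
  have hu : IsMonHom u := isMonHom_mul _ _
  obtain ⟨C, hC, q, j, hq, hj, hqj, hqf, hqs, hjc, hCp, hCg⟩ := Image.exists_image A A u
  have hmi : Mono j := Over.mono_of_mono_left j
  have hqc : QuasiCompact q.left := by
    have : QuasiCompact (q.left ≫ C.hom) := by rw [Over.w]; infer_instance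
    exact QuasiCompact.of_comp q.left C.hom
  have hqe : Epi q := by
    have : Epi q.left := inferInstance
    exact (Over.forget _).epi_of_epi_map this
  have hC' : IsCommMonObj C := isCommMonObj_of_isProper_of_geometricallyIntegral C
  have e1 : i ≫ u = 1 := by
    rw [MonObj.comp_mul, MonObj.comp_pow, GrpObj.comp_inv, Category.comp_id, ← Category.assoc, hip, pow_comp,
      Category.id_comp, mul_inv_cancel]
  have e2 : i ≫ q = 1 := by
    rw [← cancel_mono j, Category.assoc, hqj, e1, MonObj.one_comp]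
  have e3 : u ≫ p = 1 := by
    rw [MonObj.mul_comp, pow_comp, Category.id_comp, GrpObj.inv_comp, Category.assoc, hip, MonObj.comp_pow,
      Category.comp_id, mul_inv_cancel]
  have e4 : j ≫ p = 1 := by
    rw [← cancel_epi q, ← Category.assoc, hqj, e3, MonObj.comp_one]
  have e5 : j ≫ q = (𝟙 C) ^ n := by
    rw [← cancel_epi q, ← Category.assoc, hqj, MonObj.comp_pow, Category.comp_id, MonObj.mul_comp, pow_comp,
      Category.id_comp, GrpObj.inv_comp, Category.assoc, e2, MonObj.comp_one, inv_one, _root_.mul_one]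
  refine ⟨C, hC, j, lift p q, n, hCp, hCg, hj, hjc, ?_, hn, ?_, ?_⟩
  · infer_instance
  · rw [MonObj.comp_mul, lift_fst_assoc, lift_snd_assoc, hqj]
    change (p ≫ i) * ((𝟙 A) ^ n * (p ≫ i)⁻¹) = _
    rw [_root_.mul_comm ((𝟙 A) ^ n), ← _root_.mul_assoc, mul_inv_cancel, _root_.one_mul]
  · apply CartesianMonoidalCategory.hom_ext
    · rw [Category.assoc, lift_fst, pow_comp, Category.id_comp, MonObj.mul_comp, Category.assoc, Category.assoc, hip,
        e4, MonObj.comp_one, _root_.mul_one, MonObj.comp_pow, Category.comp_id]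
    · rw [Category.assoc, lift_snd, pow_comp, Category.id_comp, MonObj.mul_comp, Category.assoc, Category.assoc, e2,
        e5, MonObj.comp_one, _root_.one_mul, MonObj.comp_pow, Category.comp_id]

end K505.Complement
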