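import Groth.Agent.AbVar.K505.PoincareWeak
import Groth.Agent.Sga7.H760.FieldHom
import Groth.Agent.S0115

/-!
# Images of homomorphisms from abelian varieties, and the weak form of Poincaré's theorem
-/

set_option autoImplicit false
universe u
open AlgebraicGeometry CategoryTheory Limits MonoidalCategory CartesianMonoidalCategory MonObj

namespace K505.Image

open Groth.Agent

variable {k : Type u} [Field k]

theorem smooth_of_av (A : Over (Spec (CommRingCat.of k))) [GrpObj A] [GeometricallyIntegral A.hom] [LocallyOfFiniteType A.hom] :
    Smooth A.hom := by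
  have : GrpObj (Over.mk A.hom) := inferInstanceAs (GrpObj A)
  exact smooth_of_grpObj A.hom

theorem connected_of_av (A : Over (Spec (CommRingCat.of k))) [GeometricallyIntegral A.hom] : ConnectedSpace A.left := by
  have : IsIntegral A.left := GeometricallyIntegral.isIntegral_of_subsingleton A.hom
  infer_instance

/-- Weak form of Poincaré's theorem: an abelian subvariety `i : B ⟶ A` admits a homomorphism `p : A ⟶ B` with
`i ≫ p = n`. -/
theorem exists_retraction_up_to_isogeny (A B : Over (Spec (CommRingCat.of k)))
    [GrpObj A] [IsProper A.hom] [GeometricallyIntegral A.hom]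
    [GrpObj B] [IsProper B.hom] [GeometricallyIntegral B.hom]
    (i : B ⟶ A) [IsMonHom i] [IsClosedImmersion i.left] :
    ∃ (p : A ⟶ B) (n : ℕ), IsMonHom p ∧ 0 < n ∧ i ≫ p = (𝟙 B : B ⟶ B) ^ n := by
  have hA : IsCommMonObj A := isCommMonObj_of_isProper_of_geometricallyIntegral A
  have := smooth_of_av A
  have := smooth_of_av B
  have := connected_of_av A
  have := connected_of_av B
  exact PoincareWeak.exists_almost_complement A B i (fun X g x => mul_comm _ _)

/-- The image of a homomorphism from an abelian variety. -/
theorem exists_image (A B : Over (Spec (CommRingCat.of k)))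
    [GrpObj A] [IsProper A.hom] [GeometricallyIntegral A.hom]
    [GrpObj B] [IsSeparated B.hom] [LocallyOfFiniteType B.hom] (u : A ⟶ B) [IsMonHom u] :
    ∃ (C : Over (Spec (CommRingCat.of k))) (_ : GrpObj C) (q : A ⟶ C) (j : C ⟶ B),
      IsMonHom q ∧ IsMonHom j ∧ q ≫ j = u ∧ Flat q.left ∧ Surjective q.left ∧ IsClosedImmersion j.left ∧
      IsProper C.hom ∧ GeometricallyIntegral C.hom := by
  have := smooth_of_av A
  have := connected_of_av A
  have := Sga7.H760.FieldHom.quasiCompact_left u
  obtain ⟨C, hC, q, j, h1, h2, h3, h4, h5, h6, h7, h8, h9⟩ := Sga7.H760.FieldHom.exists_fact u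
  have hCsm : Smooth C.hom := by
    have : Smooth (q.left ≫ C.hom) := by rw [Over.w]; infer_instance
    exact S0115.result q.left C.hom
  have hCc : ConnectedSpace C.left := q.left.surjective.connectedSpace q.left.continuous
  have hCg := Sga3.H780.Pointed.geometricallyIntegral C
  have hCs : IsSeparated C.hom := by
    have : IsSeparated (j.left ≫ B.hom) := inferInstance
    rwa [Over.w] at this
  have hCp : IsProper C.hom := by
    have : IsProper (q.left ≫ C.hom) := by rw [Over.w]; infer_instance
    have : UniversallyClosed (q.left ≫ C.hom) := inferInstance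
    have : UniversallyClosed C.hom := UniversallyClosed.of_comp_surjective q.left C.hom
    have : QuasiCompact C.hom := inferInstance
    exact {}
  exact ⟨C, hC, q, j, h1, h2, h3, h4, h5, h7, hCp, hCg⟩

end K505.Image
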