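import Groth.Agent.S3239
import Groth.Agent.Sga7.H732.Hedge

/-!
# The dimension of the Jacobian

`dim_jac`: over a separably closed field, an object `J` with the universal property `IsJac` has dimension the genus.
-/

set_option autoImplicit false
universe u
open AlgebraicGeometry CategoryTheory Limits MonoidalCategory CartesianMonoidalCategory MonObj

namespace K505.JacDim

open Groth.Agent Groth.Agent.Sga7.H732.Hedge Groth.Agent.Fga.RigGrp Groth.Agent.Grpsch.PicGrp

variable {k : Type u} [Field k]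

theorem dim_jac [IsSepClosed k] {C : Scheme.{u}} {f : C ⟶ Spec (CommRingCat.of k)}
    (hX : Curve.IsSmoothProperCurve k C f) [GeometricallyIntegral f] [C.Over (Spec (CommRingCat.of k))]
    (hf : C ↘ Spec (CommRingCat.of k) = f) (σ : Spec (CommRingCat.of k) ⟶ C) (hσ : σ ≫ f = 𝟙 _)
    (J : Over (Spec (CommRingCat.of k))) [GrpObj J] [Smooth J.hom] (ξ : Pic (PicF.XT f J))
    (h : IsJac f σ hσ J ξ) :
    topologicalKrullDim J.left = (Module.finrank k (Coh.HH C (Coh.structureModule C) 1) : WithBot ℕ∞) := by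
  obtain ⟨hp, hs, hint, hdim⟩ := hX
  let ξ' : PicF.Rig f σ hσ J := rigEquiv f σ hσ J ⟨ξ, h.mem⟩
  have hξ' : ξ'.1 = toCl ξ := rfl
  refine S3239.result k C f hdim σ hσ hf J ξ' (by rw [hξ']; exact h.deg) ?_
  intro T c hc
  let c' : Rg f σ hσ T := (rigEquiv f σ hσ T).symm c
  have hc' : toCl c'.1 = c.1 := by
    rw [← rigEquiv_coe]
    exact congrArg Subtype.val ((rigEquiv f σ hσ T).apply_symm_apply c)
  obtain ⟨g, hg, hu⟩ := h.univ T c'.1 c'.2 (by rw [hc']; exact hc)
  refine ⟨g, ?_, ?_⟩
  · change PicF.pullCl (PicF.XTmap f g) ξ'.1 = c.1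
    rw [hξ', ← toCl_pull, ← hc']
    exact congrArg toCl hg
  · intro g' hg'
    apply hu
    apply toCl_injective
    rw [toCl_pull, hc', ← hg', hξ']

end K505.JacDim
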