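import Groth.Agent.Sga7.H734.JacBC
import Groth.Agent.Sga3B.BcPts
import Groth.Agent.AbVar.K505.JacDim
import Groth.Agent.Etcore.DimBaseChange
import Groth.Agent.S0223
import Groth.Agent.S1536

/-!
# Base change of the Jacobian

`isJac_bc`: if `(J, ξ)` is the Jacobian of `C` over `k`, then `J_{k'}` is the Jacobian of `C_{k'}`.
-/

set_option autoImplicit false
universe u
open AlgebraicGeometry CategoryTheory Limits MonoidalCategory CartesianMonoidalCategory MonObj

namespace K505.JacBase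

open Groth.Agent Groth.Agent.Sga7.H732.Hedge Groth.Agent.Fga.RigGrp Groth.Agent.Grpsch.PicGrp
open Groth.Agent.Sga7.H734.JacBC Groth.Agent.Sga3B.BcPts Groth.Agent.Etcore.FibreDeg Groth.Agent.Etcore.DegZero

variable {k k' : Type u} [Field k] [Field k'] {C C' : Scheme.{u}} {f : C ⟶ Spec (CommRingCat.of k)}
  {f' : C' ⟶ Spec (CommRingCat.of k')}

theorem isJac_bc [IsProper f] [IsProper f'] {ψ : Spec (CommRingCat.of k') ⟶ Spec (CommRingCat.of k)} {q : C' ⟶ C}
    (hq : IsPullback q f' f ψ)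
    {σ : Spec (CommRingCat.of k) ⟶ C} {hσ : σ ≫ f = 𝟙 _}
    {σ' : Spec (CommRingCat.of k') ⟶ C'} {hσ' : σ' ≫ f' = 𝟙 _} (hσσ : σ' ≫ q = ψ ≫ σ)
    {J : Over (Spec (CommRingCat.of k))} [GrpObj J] {ξ : Pic (PicF.XT f J)} (hJ : IsJac f σ hσ J ξ) :
    ∃ ξ' : Pic (PicF.XT f' (Red.bc ψ J)), IsJac f' σ' hσ' (Red.bc ψ J) ξ' := by
  let a : (Over.map ψ).obj (Red.bc ψ J) ⟶ J := (bcEquiv ψ (Red.bc ψ J) J).symm (𝟙 _)
  have ha : ∀ {T : Over (Spec (CommRingCat.of k'))} (g : T ⟶ Red.bc ψ J),
      (Over.map ψ).map g ≫ a = (bcEquiv ψ T J).symm g := by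
    intro T g
    rw [← comp_bcEquiv_symm, Category.comp_id]
  refine ⟨cc hq ξ a, ⟨cc_mem hq ξ σ hσ σ' hσ' hσσ hJ.mem a, deg_isPullback (isPullback_cc hq a) hJ.deg, ?_, ?_⟩⟩
  · intro T g h
    rw [← cc_comp, ← cc_comp, ← cc_comp, ha, ha, ha]
    have h1 : (bcEquiv ψ T J).symm (g * h) = (bcEquiv ψ T J).symm g * (bcEquiv ψ T J).symm h :=
      map_mul (bcMulEquiv ψ T J).symm g h
    rw [h1, cc_mul hq ξ hJ.mul]
  · intro T c hc hc0
    have hiso := isIso_io hq T
    let c₀ := pull (inv (io hq T)) c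
    have e0 : pull (io hq T) c₀ = c := by
      rw [← pull_comp, IsIso.hom_inv_id, pull_id]
    have h1 : c₀ ∈ Rg f σ hσ ((Over.map ψ).obj T) := by
      rw [mem_Rg, ← sec_io hq σ hσ σ' hσ' hσσ T, pull_comp, e0]
      exact hc
    have h2 : FGA.HasFibreDegreeZeroCl f ((Over.map ψ).obj T) (Fga.RigGrp.toCl c₀) := by
      rw [← Groth.Agent.Sga7.H734.JacBC.toCl_eq, hasFibreDegreeZeroCl_iff] at hc0 ⊢
      intro t
      have h3 := fdeg_isPullback (isPullback_io hq T) t c₀
      rw [e0, hc0 t] at h3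
      exact h3.symm
    obtain ⟨g₀, hg₀, hu⟩ := hJ.univ _ c₀ h1 h2
    have hg₀' : pull (PicF.XTmap f g₀) ξ = c₀ := hg₀
    refine ⟨bcEquiv ψ T J g₀, ?_, ?_⟩
    · change pull (PicF.XTmap f' (bcEquiv ψ T J g₀)) (cc hq ξ a) = c
      rw [← cc_comp, ha, Equiv.symm_apply_apply, cc_eq, hg₀', e0]
    · intro g hg
      have hg' : pull (PicF.XTmap f' g) (cc hq ξ a) = c := hg
      rw [← cc_comp, ha, cc_eq] at hg'
      have h3 : (bcEquiv ψ T J).symm g = g₀ := hu _ (by
        change pull (PicF.XTmap f ((bcEquiv ψ T J).symm g)) ξ = pull (inv (io hq T)) c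
        rw [← hg', ← pull_comp, IsIso.inv_hom_id, pull_id])
      rw [← h3, Equiv.apply_symm_apply]

/-- Base change of a smooth proper geometrically integral curve. -/
theorem isSmoothProperCurve_bc (s : Spec (CommRingCat.of k') ⟶ Spec (CommRingCat.of k))
    (X : Over (Spec (CommRingCat.of k))) (hX : Curve.IsSmoothProperCurve k X.left X.hom)
    [GeometricallyIntegral X.hom] : Curve.IsSmoothProperCurve k' (Red.bc s X).left (Red.bc s X).hom := by
  obtain ⟨h1, h2, h3, h4⟩ := hX
  refine ⟨inferInstanceAs (IsProper (pullback.snd X.hom s)), inferInstanceAs (Smooth (pullback.snd X.hom s)), ?_, ?_⟩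
  · exact GeometricallyIntegral.geometrically_isIntegral _ _ _ (IsPullback.of_hasPullback X.hom s)
  · rw [← h4]
    exact Groth.Agent.Etcore.DimBaseChange.topologicalKrullDim_eq (Field.toIsField k) (Field.toIsField k') X.hom
      (pullback.snd X.hom s) (pullback.fst X.hom s) s (IsPullback.of_hasPullback X.hom s)

/-- Base change of the genus. -/
theorem genus_bc {X : Over (Spec (CommRingCat.of k))} (hX : Curve.IsSmoothProperCurve k X.left X.hom)
    [GeometricallyIntegral X.hom] [X.left.Over (Spec (CommRingCat.of k))]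
    (hf : X.left ↘ Spec (CommRingCat.of k) = X.hom) [Algebra k k']
    [(Red.bc (Spec.map (CommRingCat.ofHom (algebraMap k k'))) X).left.Over (Spec (CommRingCat.of k'))]
    (hf' : (Red.bc (Spec.map (CommRingCat.ofHom (algebraMap k k'))) X).left ↘ Spec (CommRingCat.of k') =
      (Red.bc (Spec.map (CommRingCat.ofHom (algebraMap k k'))) X).hom) :
    Module.finrank k' (Coh.HH (Red.bc (Spec.map (CommRingCat.ofHom (algebraMap k k'))) X).left
      (Coh.structureModule _) 1) = Module.finrank k (Coh.HH X.left (Coh.structureModule X.left) 1) := by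
  obtain ⟨hp, hs, hint, hdim⟩ := id hX
  have h1 : IsProper (X.left ↘ Spec (CommRingCat.of k)) := by rw [hf]; exact hp
  have h2 : GeometricallyIntegral (X.left ↘ Spec (CommRingCat.of k)) := by rw [hf]; infer_instance
  have h3 : GeometricallyConnected (X.left ↘ Spec (CommRingCat.of k)) := by
    refine ⟨fun K _ y Z fst snd h => ?_⟩
    have : IsIntegral Z := GeometricallyIntegral.geometrically_isIntegral _ _ _ h
    infer_instance
  refine (S0223.result k X.left hdim (S1536.result k X.left) k'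
    (Red.bc (Spec.map (CommRingCat.ofHom (algebraMap k k'))) X).left
    (pullback.fst X.hom (Spec.map (CommRingCat.ofHom (algebraMap k k')))) ?_).2
  rw [hf, hf']
  exact IsPullback.of_hasPullback X.hom _

/-- **The dimension of the Jacobian** over any field. -/
theorem dim_jac {X : Over (Spec (CommRingCat.of k))} (hX : Curve.IsSmoothProperCurve k X.left X.hom)
    [GeometricallyIntegral X.hom] [X.left.Over (Spec (CommRingCat.of k))]
    (hf : X.left ↘ Spec (CommRingCat.of k) = X.hom) (σ : Spec (CommRingCat.of k) ⟶ X.left) (hσ : σ ≫ X.hom = 𝟙 _)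
    (J : Over (Spec (CommRingCat.of k))) [GrpObj J] [Smooth J.hom] (ξ : Pic (PicF.XT X.hom J))
    (h : IsJac X.hom σ hσ J ξ) :
    topologicalKrullDim J.left =
      (Module.finrank k (Coh.HH X.left (Coh.structureModule X.left) 1) : WithBot ℕ∞) := by
  obtain ⟨hp, hs, hint, hdim⟩ := id hX
  let Ω : Type u := AlgebraicClosure k
  let ψ : Spec (CommRingCat.of Ω) ⟶ Spec (CommRingCat.of k) := Spec.map (CommRingCat.ofHom (algebraMap k Ω))
  let X' := Red.bc ψ X
  have hX' : Curve.IsSmoothProperCurve Ω X'.left X'.hom := isSmoothProperCurve_bc ψ X hX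
  have hp' : IsProper X'.hom := hX'.1
  have hg' : GeometricallyIntegral X'.hom := inferInstanceAs (GeometricallyIntegral (pullback.snd X.hom ψ))
  let _ : X'.left.Over (Spec (CommRingCat.of Ω)) := ⟨X'.hom⟩
  let σ' : Spec (CommRingCat.of Ω) ⟶ X'.left := pullback.lift (ψ ≫ σ) (𝟙 _) (by
    rw [Category.assoc, hσ, Category.comp_id, Category.id_comp])
  have hσ' : σ' ≫ X'.hom = 𝟙 _ := pullback.lift_snd _ _ _
  have hσσ : σ' ≫ pullback.fst X.hom ψ = ψ ≫ σ := pullback.lift_fst _ _ _
  obtain ⟨ξ', hξ'⟩ := isJac_bc (f := X.hom) (f' := X'.hom) (q := pullback.fst X.hom ψ)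
    (IsPullback.of_hasPullback X.hom ψ) (hσ := hσ) (hσ' := hσ') hσσ h
  have hJs : Smooth (Red.bc ψ J).hom := inferInstanceAs (Smooth (pullback.snd J.hom ψ))
  have h1 := JacDim.dim_jac hX' rfl σ' hσ' (Red.bc ψ J) ξ' hξ'
  have h2 : topologicalKrullDim (Red.bc ψ J).left = topologicalKrullDim J.left :=
    Groth.Agent.Etcore.DimBaseChange.topologicalKrullDim_eq (Field.toIsField k) (Field.toIsField Ω) J.hom
      (pullback.snd J.hom ψ) (pullback.fst J.hom ψ) ψ (IsPullback.of_hasPullback J.hom ψ)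
  rw [← h2, h1]
  have h3 := genus_bc hX hf (k' := Ω) rfl
  exact_mod_cast h3

end K505.JacBase
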