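import Groth.Agent.S2468
import Groth.Agent.CurvesB.SmoothCurveAlg
import Mathlib.FieldTheory.PurelyInseparable.Basic
import Mathlib.FieldTheory.Perfect
import Mathlib.RingTheory.Smooth.Field
import Mathlib.FieldTheory.IntermediateField.Adjoin.Algebra

/-! The degree of a finitely generated field over the subfield of `p ^ e`-th powers. -/

set_option autoImplicit false
universe u

namespace K505.FrobDeg

/-- The degree of a homomorphism of fields. -/
noncomputable def deg {A B : Type*} [Field A] [Field B] (f : A →+* B) : ℕ :=
  @Module.finrank A B _ _ f.toAlgebra.toModule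

theorem deg_comp {A B C : Type*} [Field A] [Field B] [Field C] (f : A →+* B) (g : B →+* C) :
    deg (g.comp f) = deg f * deg g := by
  let : Algebra A B := f.toAlgebra
  let : Algebra B C := g.toAlgebra
  let : Algebra A C := (g.comp f).toAlgebra
  have : IsScalarTower A B C := IsScalarTower.of_algebraMap_eq (fun x => rfl)
  exact (Module.finrank_mul_finrank A B C).symm

theorem deg_id (A : Type*) [Field A] : deg (RingHom.id A) = 1 := by
  have : Module.finrank A A = 1 := Module.finrank_self A
  exact this

/-- The degree in terms of an identification of the source with a subring. -/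
theorem deg_eq_finrank {A B S : Type*} [Field A] [Field B] [CommRing S] [Algebra S B] (f : A →+* B) (i : A ≃+* S)
    (h : ∀ a, algebraMap S B (i a) = f a) : deg f = Module.finrank S B := by
  let : Algebra A B := f.toAlgebra
  exact Algebra.finrank_eq_of_equiv_equiv i (RingEquiv.refl B) (RingHom.ext h)

variable (k K : Type u) [Field k] [Field K] [Algebra k K] [PerfectField k] (p : ℕ) [Fact p.Prime] [CharP K p]

include k in
/-- The degree of the Frobenius. -/
theorem deg_frobenius [Algebra.EssFiniteType k K] : deg (frobenius K p) = p ^ Cardinal.toNat (Algebra.trdeg k K) := by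
  classical
  have hck : CharP k p := (Algebra.charP_iff k K p).mpr inferInstance
  have hpr : PerfectRing k p := PerfectField.toPerfectRing p
  have hfin : Module.Finite K (Ω[K⁄k]) := inferInstance
  have hr := Groth.Agent.CurvesB.SmoothCurveAlg.finrank_kaehler_eq_trdeg k K
  have hspan : (⊤ : Submodule K (Ω[K⁄k])) ≤ Submodule.span K (Set.range (KaehlerDifferential.D k K)) :=
    (KaehlerDifferential.span_range_derivation k K).ge
  let b := Module.Basis.ofSpan hspan
  have hb : ∀ i, ∃ x : K, KaehlerDifferential.D k K x = b i := fun i =>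
    Module.Basis.ofSpan_subset hspan ⟨i, rfl⟩
  choose x hx using hb
  have hpb : EGA41.IsPBasis p k x :=
    ((Groth.Agent.S2468.result p x).2.2).mpr ⟨b, fun i => (hx i).symm⟩
  -- the index type is finite, with the right cardinality
  have : Finite _ := Module.Finite.finite_basis b
  let : Fintype _ := Fintype.ofFinite ((linearIndepOn_empty K (id : Ω[K⁄k] → Ω[K⁄k])).extend
    (Set.empty_subset (Set.range (KaehlerDifferential.D k K))))
  have hcard := Module.finrank_eq_card_basis b
  rw [hr] at hcard
  -- the basis of monomials
  let B := Module.Basis.mk hpb.1 hpb.2.ge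
  have hB := Module.finrank_eq_nat_card_basis B
  have hE : Nat.card {e : ((linearIndepOn_empty K (id : Ω[K⁄k] → Ω[K⁄k])).extend
    (Set.empty_subset (Set.range (KaehlerDifferential.D k K)))) →₀ ℕ // ∀ i, e i < p} =
      p ^ Cardinal.toNat (Algebra.trdeg k K) := by
    rw [hcard]
    let eq : {e : ((linearIndepOn_empty K (id : Ω[K⁄k] → Ω[K⁄k])).extend
      (Set.empty_subset (Set.range (KaehlerDifferential.D k K)))) →₀ ℕ // ∀ i, e i < p} ≃
      (((linearIndepOn_empty K (id : Ω[K⁄k] → Ω[K⁄k])).extend
      (Set.empty_subset (Set.range (KaehlerDifferential.D k K)))) → Fin p) :=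
      { toFun := fun e i => ⟨e.1 i, e.2 i⟩
        invFun := fun g => ⟨Finsupp.equivFunOnFinite.symm (fun i => (g i).1), fun i => (g i).2⟩
        left_inv := by
          intro e
          ext i
          rfl
        right_inv := by
          intro g
          rfl }
    rw [Nat.card_congr eq, Nat.card_eq_fintype_card, Fintype.card_fun, Fintype.card_fin]
  rw [hE] at hB
  rw [← hB]
  -- the subalgebra is the image of the Frobenius
  have hS : ∀ y : K, y ∈ EGA41.pPowerSubalgebra p k K ↔ ∃ z, frobenius K p z = y := by
    intro y
    constructor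
    · intro hy
      induction hy using Algebra.adjoin_induction with
      | mem y hy =>
        obtain ⟨z, rfl⟩ := hy
        exact ⟨z, rfl⟩
      | algebraMap r =>
        obtain ⟨s, rfl⟩ := (surjective_frobenius k p) r
        exact ⟨algebraMap k K s, by simp [frobenius_def]⟩
      | add a b _ _ ha hb =>
        obtain ⟨a, rfl⟩ := ha
        obtain ⟨b, rfl⟩ := hb
        exact ⟨a + b, map_add _ _ _⟩
      | mul a b _ _ ha hb =>
        obtain ⟨a, rfl⟩ := ha
        obtain ⟨b, rfl⟩ := hb
        exact ⟨a * b, map_mul _ _ _⟩
    · rintro ⟨z, rfl⟩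
      exact Algebra.subset_adjoin ⟨z, rfl⟩
  let φ : K →+* EGA41.pPowerSubalgebra p k K :=
    (frobenius K p).codRestrict (EGA41.pPowerSubalgebra p k K) (fun z => (hS _).mpr ⟨z, rfl⟩)
  have hφ : Function.Bijective φ := by
    constructor
    · exact φ.injective
    · rintro ⟨y, hy⟩
      obtain ⟨z, hz⟩ := (hS y).mp hy
      exact ⟨z, Subtype.ext hz⟩
  exact deg_eq_finrank (frobenius K p) (RingEquiv.ofBijective φ hφ) (fun a => rfl)

include k in
theorem deg_iterateFrobenius [Algebra.EssFiniteType k K] (e : ℕ) :
    deg (iterateFrobenius K p e) = (p ^ e) ^ Cardinal.toNat (Algebra.trdeg k K) := by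
  induction e with
  | zero =>
    have : iterateFrobenius K p 0 = RingHom.id K := by
      ext x
      simp
    rw [this, deg_id]
    simp
  | succ e ih =>
    have : iterateFrobenius K p (e + 1) = (frobenius K p).comp (iterateFrobenius K p e) := by
      ext x
      simp [iterateFrobenius_def, frobenius_def, pow_succ, pow_mul]
    rw [this, deg_comp, ih, deg_frobenius k K p, ← mul_pow, pow_succ]

theorem finrank_adjoin_pow [Algebra.EssFiniteType k K] (e : ℕ) :
    Module.finrank (IntermediateField.adjoin k (Set.range fun x : K => x ^ p ^ e)) K =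
      (p ^ e) ^ Cardinal.toNat (Algebra.trdeg k K) := by
  rw [← deg_iterateFrobenius k K p e]
  have hck : CharP k p := (Algebra.charP_iff k K p).mpr inferInstance
  have hpr : PerfectRing k p := PerfectField.toPerfectRing p
  have hS : ∀ y : K, y ∈ IntermediateField.adjoin k (Set.range fun x : K => x ^ p ^ e) ↔
      ∃ z, iterateFrobenius K p e z = y := by
    intro y
    constructor
    · intro hy
      induction hy using IntermediateField.adjoin_induction with
      | mem y hy =>
        obtain ⟨z, rfl⟩ := hy
        exact ⟨z, rfl⟩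
      | algebraMap r =>
        obtain ⟨s, rfl⟩ := (bijective_iterateFrobenius k p e).2 r
        exact ⟨algebraMap k K s, by simp [iterateFrobenius_def]⟩
      | add a b _ _ ha hb =>
        obtain ⟨a, rfl⟩ := ha
        obtain ⟨b, rfl⟩ := hb
        exact ⟨a + b, map_add _ _ _⟩
      | inv a _ ha =>
        obtain ⟨a, rfl⟩ := ha
        exact ⟨a⁻¹, map_inv₀ _ _⟩
      | mul a b _ _ ha hb =>
        obtain ⟨a, rfl⟩ := ha
        obtain ⟨b, rfl⟩ := hb
        exact ⟨a * b, map_mul _ _ _⟩
    · rintro ⟨z, rfl⟩
      exact IntermediateField.subset_adjoin k _ ⟨z, rfl⟩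
  let φ : K →+* IntermediateField.adjoin k (Set.range fun x : K => x ^ p ^ e) :=
    (iterateFrobenius K p e).codRestrict _ (fun z => (hS _).mpr ⟨z, rfl⟩)
  have hφ : Function.Bijective φ := by
    constructor
    · exact φ.injective
    · rintro ⟨y, hy⟩
      obtain ⟨z, hz⟩ := (hS y).mp hy
      exact ⟨z, Subtype.ext hz⟩
  exact (deg_eq_finrank (iterateFrobenius K p e) (RingEquiv.ofBijective φ hφ) (fun a => rfl)).symm

end K505.FrobDeg
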