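import Groth.Agent.Sga3.H780.AlmostCompl

/-!
# Almost complements of central abelian subvarieties over an arbitrary field

`exists_almost_complement`: `k` any field, `G` a smooth connected group scheme of finite type over `k`,
`a : A ⟶ G` a closed central subgroup, `A` smooth, connected and proper. There are a homomorphism `φ : G ⟶ A` and
`n > 0` with `a ≫ φ = n`.  (The argument is the one of `Groth.Agent.Sga3.H780.AlmostCompl`, which does not need the
field to be algebraically closed.)
-/

set_option autoImplicit false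
universe u
open AlgebraicGeometry CategoryTheory Limits MonoidalCategory CartesianMonoidalCategory MonObj

namespace K505.PoincareWeak

open Groth.Agent Groth.Agent.Sga3.H780 Groth.Agent.Sga3.H780.AlmostCompl

variable {k : Type u} [Field k]

theorem isIntegral_tensor (X Y : Over (Spec (CommRingCat.of k))) [GeometricallyIntegral X.hom]
    [IsIntegral Y.left] [LocallyOfFiniteType Y.hom] : IsIntegral (X ⊗ Y).left := by
  have : IsLocallyNoetherian Y.left := LocallyOfFiniteType.isLocallyNoetherian Y.hom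
  change IsIntegral (pullback X.hom Y.hom)
  infer_instance

/-- Almost complements of central abelian subvarieties. -/
theorem exists_almost_complement (G A : Over (Spec (CommRingCat.of k))) [GrpObj G] [GrpObj A]
    [Smooth G.hom] [QuasiCompact G.hom] [ConnectedSpace G.left] [IsProper A.hom] [Smooth A.hom]
    [ConnectedSpace A.left] (a : A ⟶ G) [IsMonHom a] [IsClosedImmersion a.left]
    (hc : ∀ (X : Over (Spec (CommRingCat.of k))) (g : X ⟶ G) (x : X ⟶ A), g * (x ≫ a) = (x ≫ a) * g) :
    ∃ (φ : G ⟶ A) (n : ℕ), IsMonHom φ ∧ 0 < n ∧ a ≫ φ = (𝟙 A : A ⟶ A) ^ n := by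
  have hN : AlgGrp.IsNormalHom a := by
    intro T g x
    exact ⟨x, by rw [hc, mul_inv_cancel_right]⟩
  have hmono : Mono a := Over.mono_of_mono_left a
  obtain ⟨Q, _, p, hp, hflat, hsurj, hlfp, hk, hsep, hQflat, hQs⟩ := S3030.result k A G a hN
  have hQsm : Smooth Q.hom := hQs inferInstance
  have hQconn : ConnectedSpace Q.left := p.left.surjective.connectedSpace p.left.continuous
  have hGi := Pointed.isIntegral G
  have hAi := Pointed.isIntegral A
  have hQi := Pointed.isIntegral Q
  have hAg := Pointed.geometricallyIntegral A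
  have hGg := Pointed.geometricallyIntegral G
  have hcomm : IsCommMonObj A := isCommMonObj_of_isProper_of_geometricallyIntegral A
  have hqc : QuasiCompact p.left := by
    have : QuasiCompact (p.left ≫ Q.hom) := by rw [Over.w]; infer_instance
    exact QuasiCompact.of_comp p.left Q.hom
  have hpsm : Smooth p.left := smooth_of_kernel a p hk
  -- the generic point of `Q` and a point of the torsor over a finite Galois extension
  let K : Type u := Q.left.functionField
  let c : Spec (CommRingCat.of K) ⟶ Spec (CommRingCat.of k) := Q.left.fromSpecStalk (genericPoint Q.left) ≫ Q.hom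
  let j : Over.mk c ⟶ Q := Over.homMk (Q.left.fromSpecStalk (genericPoint Q.left)) rfl
  have hjm : Mono j := by
    have : Mono j.left := inferInstanceAs (Mono (Q.left.fromSpecStalk (genericPoint Q.left)))
    exact Over.mono_of_mono_left j
  have hne : Nonempty ↥(pullback p.left j.left) := by
    obtain ⟨x, -⟩ := Scheme.Pullback.exists_preimage_pullback (f := p.left) (g := j.left)
      (p.left.surjective (j.left (IsLocalRing.closedPoint K))).choose (IsLocalRing.closedPoint K)
      (p.left.surjective (j.left (IsLocalRing.closedPoint K))).choose_spec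
    exact ⟨x⟩
  obtain ⟨K', _, _, P₀, hfin, hgal, hP₀⟩ := SepPt.exists_point K (pullback.snd p.left j.left)
  have hP₁ : (P₀ ≫ pullback.fst p.left j.left) ≫ p.left =
      Spec.map (CommRingCat.ofHom (algebraMap K K')) ≫ j.left := by
    rw [Category.assoc, pullback.condition, ← Category.assoc, hP₀]
  let P : Over.mk (Spec.map (CommRingCat.ofHom (algebraMap K K')) ≫ c) ⟶ G :=
    Over.homMk (P₀ ≫ pullback.fst p.left j.left) (by
      have h0 : ((P₀ ≫ pullback.fst p.left j.left) ≫ p.left) ≫ Q.hom =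
        (Spec.map (CommRingCat.ofHom (algebraMap K K')) ≫ j.left) ≫ Q.hom := by rw [hP₁]
      rw [Category.assoc (P₀ ≫ pullback.fst p.left j.left), Over.w p, Category.assoc (Spec.map _)] at h0
      exact h0)
  have hP : P ≫ p = Over.homMk (Spec.map (CommRingCat.ofHom (algebraMap K K'))) rfl ≫ j := by
    ext1
    exact hP₁
  -- the generic point of `G`
  let F : Type u := G.left.functionField
  let cF : Spec (CommRingCat.of F) ⟶ Spec (CommRingCat.of k) := G.left.fromSpecStalk (genericPoint G.left) ≫ G.hom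
  let ξ : Over.mk cF ⟶ G := Over.homMk (G.left.fromSpecStalk (genericPoint G.left)) rfl
  obtain ⟨i₀, hi₀⟩ := exists_generic p.left
  let i : Over.mk cF ⟶ Over.mk c := Over.homMk i₀ (by
    change i₀ ≫ Q.left.fromSpecStalk (genericPoint Q.left) ≫ Q.hom = G.left.fromSpecStalk (genericPoint G.left) ≫ G.hom
    rw [← Category.assoc, hi₀, Category.assoc, Over.w])
  have hi : i ≫ j = ξ ≫ p := by
    ext1
    exact hi₀
  obtain ⟨θ, hθ⟩ := NormField.exists_norm a p hk hc K K' F c j P hP cF ξ i hi
  let n : ℕ := Fintype.card (K' ≃ₐ[K] K')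
  -- extension to `G`
  have : GrpObj (Over.mk A.hom) := inferInstanceAs (GrpObj A)
  obtain ⟨g₀, hg₀, hg₀'⟩ := RatExt.exists_extension_functionField G.hom A.hom θ.left (Over.w θ)
  let φ₀ : G ⟶ A := Over.homMk g₀ hg₀
  have hφ₀ : ξ ≫ φ₀ = θ := by
    ext1
    exact hg₀'
  -- the multiplication map
  let m : G ⊗ A ⟶ G := fst G A * (snd G A ≫ a)
  have hGA : IsIntegral (G ⊗ A).left := isIntegral_tensor G A
  have hsec : lift (𝟙 G) (toUnit G ≫ η[A]) ≫ m = 𝟙 G := by
    rw [MonObj.comp_mul, lift_fst, lift_snd_assoc, Category.assoc, IsMonHom.one_hom, ← Hom.one_def,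
      _root_.mul_one]
  have hsec' : lift (𝟙 G) (toUnit G ≫ η[A]) ≫ fst G A = 𝟙 G := lift_fst _ _
  have hm : Surjective m.left := by
    have h0 := congr(($hsec).left)
    rw [Over.comp_left] at h0
    have : Surjective ((lift (𝟙 G) (toUnit G ≫ η[A])).left ≫ m.left) := by
      rw [h0]
      exact inferInstanceAs (Surjective (𝟙 G.left))
    exact Surjective.of_comp (lift (𝟙 G) (toUnit G ≫ η[A])).left m.left
  have hf : Surjective (fst G A).left := by
    have h0 := congr(($hsec').left)
    rw [Over.comp_left] at h0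
    have : Surjective ((lift (𝟙 G) (toUnit G ≫ η[A])).left ≫ (fst G A).left) := by
      rw [h0]
      exact inferInstanceAs (Surjective (𝟙 G.left))
    exact Surjective.of_comp (lift (𝟙 G) (toUnit G ≫ η[A])).left (fst G A).left
  let L : Type u := (G ⊗ A).left.functionField
  let cL : Spec (CommRingCat.of L) ⟶ Spec (CommRingCat.of k) :=
    (G ⊗ A).left.fromSpecStalk (genericPoint (G ⊗ A).left) ≫ (G ⊗ A).hom
  let l : Over.mk cL ⟶ G ⊗ A := Over.homMk ((G ⊗ A).left.fromSpecStalk (genericPoint (G ⊗ A).left)) rfl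
  have hl : IsDominant l.left := isDominant_fromSpecStalk (G ⊗ A).left
  have hfac : ∀ (f : G ⊗ A ⟶ G) (_ : Surjective f.left), ∃ i₁ : Over.mk cL ⟶ Over.mk cF, i₁ ≫ ξ = l ≫ f := by
    intro f hf
    obtain ⟨i₁, hi₁⟩ := exists_generic f.left
    refine ⟨Over.homMk i₁ ?_, ?_⟩
    · change i₁ ≫ G.left.fromSpecStalk (genericPoint G.left) ≫ G.hom = (G ⊗ A).left.fromSpecStalk _ ≫ (G ⊗ A).hom
      rw [← Category.assoc, hi₁, Category.assoc, Over.w]
    · ext1
      exact hi₁
  obtain ⟨i₁, hi₁⟩ := hfac (fst G A) hf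
  obtain ⟨i₂, hi₂⟩ := hfac m hm
  have h1 : i₂ ≫ ξ = (i₁ ≫ ξ) * ((l ≫ snd G A) ≫ a) := by
    rw [hi₂, MonObj.comp_mul, hi₁, Category.assoc]
  have h2 := hθ L cL i₁ i₂ (l ≫ snd G A) h1
  have h3 : m ≫ φ₀ = (fst G A ≫ φ₀) * (snd G A) ^ n := by
    apply PointedProd.ext_of_dominant _ _ _ l
    rw [← Category.assoc, ← hi₂, Category.assoc, hφ₀, h2, MonObj.comp_mul, ← Category.assoc l, ← hi₁, Category.assoc,
      hφ₀, MonObj.comp_pow]
  -- normalisation
  let c₀ : 𝟙_ (Over (Spec (CommRingCat.of k))) ⟶ A := η[G] ≫ φ₀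
  let φ : G ⟶ A := φ₀ * (toUnit G ≫ c₀)⁻¹
  have hφη : η[G] ≫ φ = η[A] := by
    rw [MonObj.comp_mul, GrpObj.comp_inv, ← Category.assoc, toUnit_unique (η[G] ≫ toUnit G) (𝟙 _), Category.id_comp,
      mul_inv_cancel, MonObj.one_eq_one]
  refine ⟨φ, n, Pointed.isMonHom_of_pointed G A φ hφη, Fintype.card_pos, ?_⟩
  have h4 : a = lift (toUnit A ≫ η[G]) (𝟙 A) ≫ m := by
    rw [MonObj.comp_mul, lift_fst, lift_snd_assoc, ← Hom.one_def, _root_.one_mul, Category.id_comp]
  have h5 : a ≫ φ₀ = (toUnit A ≫ c₀) * (𝟙 A) ^ n := by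
    conv_lhs => rw [h4]
    rw [Category.assoc, h3, MonObj.comp_mul, lift_fst_assoc, MonObj.comp_pow, lift_snd, Category.assoc]
  have h6 : a ≫ toUnit G ≫ c₀ = toUnit A ≫ c₀ := by
    rw [← Category.assoc, toUnit_unique (a ≫ toUnit G) (toUnit A)]
  rw [MonObj.comp_mul, h5, GrpObj.comp_inv, h6, _root_.mul_comm (toUnit A ≫ c₀), mul_inv_cancel_right]

end K505.PoincareWeak
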