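import Groth.Agent.Sga3.H780.Pointed
import Mathlib.AlgebraicGeometry.Sites.Fpqc

/-! Morphisms from a product of smooth varieties into an abelian variety. -/

set_option autoImplicit false
universe u
open AlgebraicGeometry CategoryTheory Limits MonoidalCategory CartesianMonoidalCategory MonObj

namespace K505.SumMap

open Groth.Agent.Sga3.H780

variable {k : Type u} [Field k]

/-- Over an algebraically closed field, a morphism `V × W ⟶ A` which is trivial on `v₀ × W` does not depend on the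
second variable. -/
theorem indep_of_isAlgClosed [IsAlgClosed k] (V W A : Over (Spec (CommRingCat.of k))) [IsIntegral V.left]
    [Smooth V.hom] [IsIntegral W.left] [Smooth W.hom] [GrpObj A] [IsProper A.hom] (h : V ⊗ W ⟶ A)
    (v₀ : 𝟙_ (Over (Spec (CommRingCat.of k))) ⟶ V)
    (h0 : lift (toUnit W ≫ v₀) (𝟙 W) ≫ h = toUnit W ≫ η[A]) :
    ∃ g : V ⟶ A, h = fst V W ≫ g := by
  obtain ⟨w₀⟩ := PointedProd.exists_point W
  refine ⟨lift (𝟙 V) (toUnit V ≫ w₀) ≫ h, ?_⟩
  have key := PointedProd.eq_const V W A (h * (fst V W ≫ lift (𝟙 V) (toUnit V ≫ w₀) ≫ h)⁻¹) v₀ w₀ η[A]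
    (by
      have h1 : toUnit W ≫ lift v₀ w₀ ≫ h = toUnit W ≫ η[A] := by
        have : lift v₀ w₀ ≫ h = w₀ ≫ lift (toUnit W ≫ v₀) (𝟙 W) ≫ h := by
          rw [← Category.assoc, comp_lift]
          congr 2
          rw [← Category.assoc, toUnit_unique (w₀ ≫ toUnit W) (𝟙 _), Category.id_comp]
        rw [this, h0, ← Category.assoc, ← Category.assoc]
        congr 1
        exact toUnit_unique _ _
      rw [comp_mul, h0, GrpObj.comp_inv, lift_fst_assoc, ← Category.assoc, comp_lift]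
      have h2 : lift ((toUnit W ≫ v₀) ≫ 𝟙 V) ((toUnit W ≫ v₀) ≫ toUnit V ≫ w₀) ≫ h = toUnit W ≫ lift v₀ w₀ ≫ h := by
        rw [← Category.assoc (toUnit W), comp_lift, Category.comp_id]
        congr 2
        rw [← Category.assoc]
        congr 1
        exact toUnit_unique _ _
      rw [h2, h1, ← Hom.one_def, inv_one, _root_.mul_one])
    (by
      rw [comp_mul, GrpObj.comp_inv, lift_fst_assoc, Category.id_comp, mul_inv_cancel, Hom.one_def])
  rw [← Hom.one_def] at key
  exact mul_inv_eq_one.1 key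

set_option backward.defeqAttrib.useBackward true in
/-- Over any field, a morphism `V × W ⟶ A` which is trivial on `v₀ × W` does not depend on the
second variable. -/
theorem indep (V W A : Over (Spec (CommRingCat.of k))) [GeometricallyIntegral V.hom]
    [Smooth V.hom] [GeometricallyIntegral W.hom] [Smooth W.hom] [GrpObj A] [IsProper A.hom] (h : V ⊗ W ⟶ A)
    (v₀ : 𝟙_ (Over (Spec (CommRingCat.of k))) ⟶ V)
    (h0 : lift (toUnit W ≫ v₀) (𝟙 W) ≫ h = toUnit W ≫ η[A]) {T : Over (Spec (CommRingCat.of k))} (v : T ⟶ V)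
    (w w' : T ⟶ W) :
    lift v w ≫ h = lift v w' ≫ h := by
  let f := Spec.map (CommRingCat.ofHom <| algebraMap k (AlgebraicClosure k))
  let V' := (Over.pullback f).obj V
  let W' := (Over.pullback f).obj W
  let A' := (Over.pullback f).obj A
  have : Smooth V'.hom := by dsimp [V']; infer_instance
  have : Smooth W'.hom := by dsimp [W']; infer_instance
  have : IsProper A'.hom := by dsimp [A']; infer_instance
  have : IsIntegral V'.left := by
    have : GeometricallyIntegral V'.hom := by dsimp [V']; infer_instance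
    exact GeometricallyIntegral.isIntegral_of_subsingleton V'.hom
  have : IsIntegral W'.left := by
    have : GeometricallyIntegral W'.hom := by dsimp [W']; infer_instance
    exact GeometricallyIntegral.isIntegral_of_subsingleton W'.hom
  let : GrpObj A' := Functor.grpObjObj
  let h' : V' ⊗ W' ⟶ A' := Functor.LaxMonoidal.μ (Over.pullback f) V W ≫ (Over.pullback f).map h
  let v₀' : 𝟙_ _ ⟶ V' := Functor.LaxMonoidal.ε (Over.pullback f) ≫ (Over.pullback f).map v₀
  have hη : η[A'] = Functor.LaxMonoidal.ε (Over.pullback f) ≫ (Over.pullback f).map η[A] := rfl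
  have hl : ∀ {T : Over (Spec (CommRingCat.of k))} (a : T ⟶ V) (b : T ⟶ W),
      (Over.pullback f).map (lift a b ≫ h) = lift ((Over.pullback f).map a) ((Over.pullback f).map b) ≫ h' := by
    intro T a b
    simp only [h', CategoryTheory.Functor.map_comp]
    rw [← Category.assoc, Functor.Monoidal.lift_μ]
  have h0' : lift (toUnit W' ≫ v₀') (𝟙 W') ≫ h' = toUnit W' ≫ η[A'] := by
    have h1 := hl (toUnit W ≫ v₀) (𝟙 W)
    rw [h0, CategoryTheory.Functor.map_comp, CategoryTheory.Functor.map_comp, CategoryTheory.Functor.map_id] at h1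
    have h2 : (Over.pullback f).map (toUnit W) = toUnit W' ≫ Functor.LaxMonoidal.ε (Over.pullback f) :=
      (Functor.Monoidal.toUnit_ε (Over.pullback f) W).symm
    rw [h2, Category.assoc, Category.assoc] at h1
    exact h1.symm
  obtain ⟨g, hg⟩ := indep_of_isAlgClosed V' W' A' h' v₀' h0'
  apply (Over.pullback f).map_injective
  rw [hl, hl, hg, lift_fst_assoc, lift_fst_assoc]

/-- A morphism `V × W ⟶ A` which is trivial on `v₀ × W` factors through the first projection. -/
theorem exists_factor (V W A : Over (Spec (CommRingCat.of k))) [GeometricallyIntegral V.hom]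
    [Smooth V.hom] [GeometricallyIntegral W.hom] [Smooth W.hom] [QuasiCompact W.hom] [GrpObj A] [IsProper A.hom] (h : V ⊗ W ⟶ A)
    (v₀ : 𝟙_ (Over (Spec (CommRingCat.of k))) ⟶ V)
    (h0 : lift (toUnit W ≫ v₀) (𝟙 W) ≫ h = toUnit W ≫ η[A]) :
    ∃ g : V ⟶ A, h = fst V W ≫ g := by
  have : Flat (fst V W).left := by dsimp; infer_instance
  have : Surjective (fst V W).left := by dsimp; infer_instance
  have : QuasiCompact (fst V W).left := by dsimp; infer_instance
  have key : ∀ {Z : Scheme.{u}} (g₁ g₂ : Z ⟶ (V ⊗ W).left), g₁ ≫ (fst V W).left = g₂ ≫ (fst V W).left →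
      g₁ ≫ h.left = g₂ ≫ h.left := by
    intro Z g₁ g₂ hg
    let Z' : Over (Spec (CommRingCat.of k)) := Over.mk (g₁ ≫ (V ⊗ W).hom)
    have e2 : g₂ ≫ (V ⊗ W).hom = g₁ ≫ (V ⊗ W).hom := by
      rw [← Over.w (fst V W), ← Category.assoc, ← hg, Category.assoc]
    let a₁ : Z' ⟶ V ⊗ W := Over.homMk g₁ rfl
    let a₂ : Z' ⟶ V ⊗ W := Over.homMk g₂ e2
    have e3 : a₁ ≫ fst V W = a₂ ≫ fst V W := by
      ext1
      exact hg
    have e4 : a₁ ≫ h = a₂ ≫ h := by
      have h1 : a₁ = lift (a₁ ≫ fst V W) (a₁ ≫ snd V W) := by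
        ext1 <;> simp
      have h2 : a₂ = lift (a₁ ≫ fst V W) (a₂ ≫ snd V W) := by
        rw [e3]
        ext1 <;> simp
      rw [h1, h2]
      exact indep V W A h v₀ h0 _ _ _
    exact congrArg (fun t => t.left) e4
  let g := EffectiveEpi.desc (fst V W).left h.left key
  have hg : (fst V W).left ≫ g = h.left := EffectiveEpi.fac _ _ key
  have hg' : g ≫ A.hom = V.hom := by
    rw [← cancel_epi (fst V W).left, ← Category.assoc, hg, Over.w, Over.w]
  refine ⟨Over.homMk g hg', ?_⟩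
  ext1
  exact hg.symm

theorem epi_fst (V W : Over (Spec (CommRingCat.of k))) [GeometricallyIntegral W.hom] [QuasiCompact W.hom] :
    Epi (fst V W) := by
  have : Flat (fst V W).left := by dsimp; infer_instance
  have : Surjective (fst V W).left := by dsimp; infer_instance
  have : QuasiCompact (fst V W).left := by dsimp; infer_instance
  have : Epi (fst V W).left := inferInstance
  exact Over.epi_of_epi_left _

theorem exists_sum (V W A : Over (Spec (CommRingCat.of k))) [GeometricallyIntegral V.hom]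
    [Smooth V.hom] [GeometricallyIntegral W.hom] [Smooth W.hom] [QuasiCompact W.hom] [GrpObj A] [IsProper A.hom] (f : V ⊗ W ⟶ A)
    (v₀ : 𝟙_ (Over (Spec (CommRingCat.of k))) ⟶ V) :
    ∃ (f₁ : V ⟶ A) (f₂ : W ⟶ A), f = (fst V W ≫ f₁) * (snd V W ≫ f₂) := by
  let f₂ : W ⟶ A := lift (toUnit W ≫ v₀) (𝟙 W) ≫ f
  obtain ⟨g, hg⟩ := exists_factor V W A (f * (snd V W ≫ f₂)⁻¹) v₀ (by
    rw [comp_mul, GrpObj.comp_inv, lift_snd_assoc, Category.id_comp, mul_inv_cancel, Hom.one_def])
  refine ⟨g, f₂, ?_⟩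
  rw [← hg]
  group

theorem sum_unique (V W A : Over (Spec (CommRingCat.of k))) 
    [GeometricallyIntegral W.hom] [QuasiCompact W.hom] [GrpObj A] [IsCommMonObj A]
    (v₀ : 𝟙_ (Over (Spec (CommRingCat.of k))) ⟶ V) (f₁ f₁' : V ⟶ A) (f₂ f₂' : W ⟶ A)
    (h : (fst V W ≫ f₁) * (snd V W ≫ f₂) = (fst V W ≫ f₁') * (snd V W ≫ f₂')) :
    ∃ a : 𝟙_ (Over (Spec (CommRingCat.of k))) ⟶ A, f₁' = f₁ * (toUnit V ≫ a) ∧ f₂' * (toUnit W ≫ a) = f₂ := by
  have h1 : f₂' * (toUnit W ≫ ((v₀ ≫ f₁)⁻¹ * (v₀ ≫ f₁'))) = f₂ := by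
    have h2 := congrArg (fun t => lift (toUnit W ≫ v₀) (𝟙 W) ≫ t) h
    simp only [comp_mul, lift_fst_assoc, lift_snd_assoc, Category.id_comp, Category.assoc] at h2
    rw [comp_mul, GrpObj.comp_inv, mul_comm, _root_.mul_assoc, ← h2, ← _root_.mul_assoc, inv_mul_cancel, _root_.one_mul]
  refine ⟨(v₀ ≫ f₁)⁻¹ * (v₀ ≫ f₁'), ?_, h1⟩
  have := epi_fst V W
  rw [← cancel_epi (fst V W)]
  rw [← h1] at h
  have h3 : (fst V W ≫ f₁) * (snd V W ≫ toUnit W ≫ ((v₀ ≫ f₁)⁻¹ * (v₀ ≫ f₁'))) = fst V W ≫ f₁' := by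
    rw [comp_mul (snd V W)] at h
    apply mul_right_cancel (b := snd V W ≫ f₂')
    rw [← h, _root_.mul_assoc, mul_comm (snd V W ≫ toUnit W ≫ _)]
  have h4 : fst V W ≫ toUnit V = snd V W ≫ toUnit W := toUnit_unique _ _
  have h5 : ∀ a : 𝟙_ (Over (Spec (CommRingCat.of k))) ⟶ A, fst V W ≫ toUnit V ≫ a = snd V W ≫ toUnit W ≫ a := by
    intro a
    rw [← Category.assoc, h4, Category.assoc]
  rw [comp_mul (fst V W), h5]
  exact h3.symm

end K505.SumMap
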